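import Cfsg.Agent.Lib.SzV.QP

/-!
# Coordinates in `2^{1+8}_+`
-/

set_option autoImplicit false
set_option linter.unusedSectionVars false
set_option maxRecDepth 100000

namespace Cfsg.Lib.SzV

open Subgroup Cfsg.Lib.Calc Cfsg.Lib.Grp Cfsg.Lib.T2 Cfsg.Lib.RI Cfsg.Lib.SzS Cfsg.Lib.BG
open scoped Cfsg.Lib.Transfer

/-- exclusive or -/
noncomputable def bx (a b : Bool) : Bool := Bool.rec b (bnot b) a
theorem bx_eq (a b : Bool) : bx a b = xor a b := by cases a <;> cases b <;> rfl
/-- the rows of the cocycle -/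
def RT : ℕ := 0xC0401C0C04000100
/-- parity -/
def PAR : ℕ := 0x6996966996696996966969966996966996696996699696696996966996696996
/-- the partial cocycle -/
noncomputable def kn (i j n : ℕ) : Bool :=
  Nat.rec false (fun n ih => Bool.rec ih (bx (Calc.bit PAR (Nat.land j (get 8 RT n))) ih) (Calc.bit i n)) n
/-- the cocycle -/
noncomputable def kp (i j : ℕ) : Bool := kn i j 8
/-- multiplication by the central involution -/
noncomputable def tz (b : Bool) (i : ℕ) : ℕ := cnd b (Nat.xor i 256) i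
/-- the product -/
noncomputable def mq (i j : ℕ) : ℕ := forceN i fun i => forceN j fun j => tz (kp i j) (Nat.xor i j)
/-- the form -/
noncomputable def Bq (i j : ℕ) : Bool := bx (kp i j) (kp j i)
/-- conjugation -/
noncomputable def cf (i j : ℕ) : ℕ := forceN j fun j => tz (Bq i j) j
/-- the basis -/
def B8 : List ℕ := [1, 2, 4, 8, 16, 32, 64, 128]

theorem tz_lt {i : ℕ} (b : Bool) (h : i < 512) : tz b i < 512 := by
  cases b; exacts [h, Nat.xor_lt_two_pow (n := 9) h (by decide)]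
theorem mq_lt {i j : ℕ} (a : i < 512) (b : j < 512) : mq i j < 512 := by
  rw [mq, forceN_eq, forceN_eq]; exact tz_lt _ (Nat.xor_lt_two_pow (n := 9) a b)
theorem tz_mod (b : Bool) (i : ℕ) : finPt 256 (tz b i) = finPt 256 i := by
  cases b; exacts [rfl, Fin.ext ((Nat.xor_mod_two_pow (n := 8)).trans (Nat.xor_zero _))]

variable {G : Type*} [Group G] {g e : ℕ → G} {z x y : G} {i j k n : ℕ}

/-- a power of `z` -/
def zb (z : G) (b : Bool) : G := bif b then z else 1
theorem zb_mul (h : z * z = 1) (a b : Bool) : zb z a * zb z b = zb z (xor a b) := by cases a <;> cases b <;> simp [zb, h]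
theorem zb_c (h : Commute z x) (a : Bool) : Commute (zb z a) x := by cases a; exacts [.one_left _, h]
theorem zb_inj (h : z ≠ 1) {a b : Bool} (f : zb z a = zb z b) : a = b := by
  cases a <;> cases b <;> first | rfl | exact absurd f h | exact absurd f.symm h

/-- an ordered product -/
def el9 (g : ℕ → G) (i : ℕ) : ℕ → G
  | 0 => 1
  | n + 1 => el9 g i n * zb (g n) (i.testBit n)
/-- the elements -/
def eq9 (g : ℕ → G) (z : G) (i : ℕ) : G := el9 g i 8 * zb z (i.testBit 8)
/-- partial parity -/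
def lam (x : ℕ) : ℕ → Bool
  | 0 => false
  | n + 1 => xor (lam x n) (x.testBit n)

/-- coordinates -/
structure Cq (e : ℕ → G) (z : G) : Prop where
  mul : ∀ i j, e i * e j = e (i ^^^ j) * zb z (kp i j)
  ez : ∀ i, e (i ^^^ 256) = e i * z
  md : ∀ i, e (i % 512) = e i
  z2 : z * z = 1
  z1 : z ≠ 1
  zc : ∀ i, Commute z (e i)

theorem cq_of (z2 : z * z = 1) (z1 : z ≠ 1) (zc : ∀ k < 8, Commute z (g k)) (sq : ∀ k < 8, g k * g k = zb z ((get 8 RT k).testBit k))
    (cm : ∀ k < 8, ∀ l < k, g k * g l = g l * g k * zb z ((get 8 RT k).testBit l)) : Cq (eq9 g z) z := by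
  have c : ∀ i, ∀ n ≤ 8, Commute z (el9 g i n) := fun i n h => by
    induction n with
    | zero => exact .one_right _
    | succ n ih => exact (ih (by omega)).mul_right (zb_c (zc n h).symm _).symm
  have A : ∀ j, ∀ k < 8, ∀ n ≤ k, g k * el9 g j n = el9 g j n * g k * zb z (lam (j &&& get 8 RT k) n) := fun j k hk n h => by
    induction n with
    | zero => simp [el9, lam, zb]
    | succ n ih =>
      rw [el9, ← mul_assoc, ih (by omega), lam, ← zb_mul z2, Nat.testBit_and]
      cases j.testBit n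
      · simp [zb]
      · rw [show zb (g n) true = g n from rfl, Bool.true_and, mul_assoc, (zb_c (zc n (by omega)) _).eq, ← mul_assoc, mul_assoc _ (g k), cm k hk n h,
          (zb_c (zb_c (.refl z) _).symm _).eq]
        simp only [mul_assoc]
  have B : ∀ i j, ∀ n ≤ 8, el9 g i n * el9 g j n = el9 g (i ^^^ j) n * zb z (kn i j n) := fun i j n h => by
    induction n with
    | zero => simp [el9, kn, zb]
    | succ n ih =>
      have p : Calc.bit PAR (j &&& get 8 RT n) = lam (j &&& get 8 RT n) (n + 1) :=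
        (by decide +kernel : ∀ n < 8, ∀ x ≤ get 8 RT n, Calc.bit PAR x = lam x (n + 1)) n h _ Nat.and_le_right
      have q : kn i j (n + 1) = xor (i.testBit n && lam (j &&& get 8 RT n) (n + 1)) (kn i j n) := by
        rw [← p, ← bit_eq]
        show (Bool.rec (kn i j n) (bx _ (kn i j n)) (Calc.bit i n) : Bool) = _
        cases Calc.bit i n
        exacts [by simp, bx_eq ..]
      have s := sq n h
      have o := fun b => (zb_c (zc n h) b).eq
      rw [q, el9, el9, el9, Nat.testBit_xor, lam, Nat.testBit_and]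
      cases i.testBit n
      · rw [show zb (g n) false = 1 from rfl, mul_one, Bool.false_xor, Bool.false_and, Bool.false_xor, ← mul_assoc, ih (by omega), mul_assoc,
          (zb_c (zb_c (zc n h).symm _).symm _).eq, mul_assoc]
      · rw [show zb (g n) true = g n from rfl, mul_assoc, ← mul_assoc (g n), A j n h n le_rfl, mul_assoc (el9 g j n), mul_assoc (el9 g j n),
          ← mul_assoc, ih (by omega), Bool.true_and, mul_assoc, mul_assoc, mul_assoc, mul_right_inj]
        cases j.testBit n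
        · simp only [Bool.false_and, Bool.xor_false, show zb (g n) false = 1 from rfl, show zb (g n) true = g n from rfl, mul_one]
          rw [← mul_assoc, o, mul_assoc, zb_mul z2, Bool.xor_comm]
        · simp only [Bool.true_and, Bool.xor_self, show zb (g n) false = 1 from rfl, show zb (g n) true = g n from rfl, one_mul]
          rw [o, ← mul_assoc (g n), s, zb_mul z2, zb_mul z2]
          cases kn i j n <;> cases lam _ n <;> cases Nat.testBit _ n <;> rfl
  have C : ∀ i j, ∀ n, (∀ k < n, i.testBit k = j.testBit k) → el9 g i n = el9 g j n := fun i j n h => by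
    induction n with
    | zero => rfl
    | succ n ih => rw [el9, el9, ih fun k a => h k (by omega), h n (by omega)]
  refine ⟨fun i j => ?_, fun i => ?_, fun i => ?_, z2, z1, fun i => (c i 8 le_rfl).mul_right (zb_c (.refl z) _).symm⟩
  · rw [eq9, eq9, eq9, (zb_c (c j 8 le_rfl) _).mul_mul_mul_comm, B i j 8 le_rfl, mul_assoc, mul_assoc, zb_mul z2, zb_mul z2, zb_mul z2,
      Nat.testBit_xor, Bool.xor_comm]; rfl
  · rw [eq9, eq9, C _ i 8 fun k a => by
      rw [Nat.testBit_xor, (by decide : ∀ k < 8, Nat.testBit 256 k = false) k a, Bool.xor_false], Nat.testBit_xor, mul_assoc, ← zb_mul z2]; rfl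
  · rw [eq9, eq9, C _ i 8 fun k a => by rw [show 512 = 2 ^ 9 from rfl, Nat.testBit_mod_two_pow]; simp; omega,
      show 512 = 2 ^ 9 from rfl, Nat.testBit_mod_two_pow]; simp

namespace Cq
variable (h : Cq e z)
include h

theorem et (b : Bool) (i : ℕ) : e (tz b i) = e i * zb z b := by cases b; exacts [(mul_one _).symm, h.ez i]
theorem mq (i j : ℕ) : e i * e j = e (mq i j) := by rw [SzV.mq, forceN_eq, forceN_eq, h.et, h.mul]; rfl
theorem e0 : e 0 = 1 := by simpa [show kp 0 0 = false by decide +kernel, zb] using h.mul 0 0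
theorem e8 : e 256 = z := by simpa [h.e0] using h.ez 0
theorem sq (i : ℕ) : e i * e i = zb z (kp i i) := by rw [h.mul, Nat.xor_self, h.e0, one_mul]
theorem cm (i j : ℕ) : e i * e j = e j * e i * zb z (Bq i j) := by
  rw [h.mul, h.mul, Nat.xor_comm, mul_assoc, zb_mul h.z2, Bq, bx_eq]; cases kp i j <;> cases kp j i <;> rfl
theorem cm_iff : Commute (e i) (e j) ↔ Bq i j = false := by
  rw [Commute, SemiconjBy, h.cm, mul_eq_left]; exact ⟨fun f => zb_inj h.z1 f, fun f => f ▸ rfl⟩
theorem cje (i j : ℕ) : cj (e i) (e j) = e (cf i j) := by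
  rw [cf, forceN_eq, h.et, cj, h.cm, mul_assoc (e j), ← (zb_c (h.zc i) _).eq, ← mul_assoc, mul_inv_cancel_right]
theorem inv (i : ℕ) : (e i)⁻¹ = e (tz (kp i i) i) := by rw [h.et, inv_eq_iff_mul_eq_one, ← mul_assoc, h.sq, zb_mul h.z2, Bool.xor_self]; rfl
theorem cen (a : i < 512) (c : ∀ b ∈ B8, Commute (e i) (e b)) : i = 0 ∨ i = 256 :=
  (by decide +kernel : ∀ i < 512, (∀ b ∈ B8, Bq i b = false) → i = 0 ∨ i = 256) i a fun b m => h.cm_iff.1 (c b m)
theorem inj : Inj 512 e := fun i a j b f => by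
  have := h.mul i j
  rw [f, h.sq, ← mul_inv_eq_iff_eq_mul] at this
  have c := h.cen (Nat.xor_lt_two_pow (n := 9) a b) fun b _ => this ▸ (zb_c (h.zc b) _).mul_left (zb_c (h.zc b) _).inv_left
  refine c.elim Nat.eq_of_xor_eq_zero fun c => absurd ?_ h.z1
  rw [← Nat.xor_xor_cancel_right i j, c, Nat.xor_comm, h.ez] at f
  exact mul_eq_left.1 f
theorem ind {P : G → Prop} (h1 : P 1) (hm : ∀ x, ∀ k < 9, P x → P (x * e (2 ^ k))) (j : ℕ) : P (e j) := by
  rw [← h.md]
  have := Nat.mod_lt j (by decide : 0 < 512)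
  generalize j % 512 = j at this
  induction j using Nat.strong_induction_on with
  | _ j ih =>
    obtain rfl | ⟨k, a, b, c⟩ := (by decide +kernel : ∀ j < 512, j = 0 ∨ ∃ k < 9, j ^^^ 2 ^ k < j ∧ SzV.mq (j ^^^ 2 ^ k) (2 ^ k) = j) j this
    exacts [h.e0 ▸ h1, c ▸ h.mq _ _ ▸ hm _ k a (ih _ b (b.trans this))]
theorem mem {H : Subgroup G} (a : ∀ b ∈ B8, e b ∈ H) (j : ℕ) : e j ∈ H := h.ind (one_mem H) (fun x k c m => mul_mem m (by
  obtain c | rfl := (by decide : ∀ k < 9, 2 ^ k ∈ B8 ∨ k = 8) k c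
  exacts [a _ c, by simpa [h.mq, show SzV.mq 64 64 = 256 by decide +kernel] using mul_mem (a 64 (by decide)) (a 64 (by decide))])) j
theorem low (a : i < 512) : e i = e (i % 256) * zb z (i.testBit 8) := by
  rw [← h.et, (by decide +kernel : ∀ i < 512, tz (i.testBit 8) (i % 256) = i) i a]

/-- the group -/
def Q : Subgroup G where
  carrier := Set.range e
  mul_mem' := by rintro _ _ ⟨i, rfl⟩ ⟨j, rfl⟩; exact ⟨_, (h.mq ..).symm⟩
  one_mem' := ⟨0, h.e0⟩
  inv_mem' := by rintro _ ⟨i, rfl⟩; exact ⟨_, (h.inv _).symm⟩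
theorem mQ (i : ℕ) : e i ∈ h.Q := ⟨i, rfl⟩
theorem zQ : z ∈ h.Q := ⟨_, h.e8⟩
theorem le {H : Subgroup G} (a : ∀ b ∈ B8, e b ∈ H) : h.Q ≤ H := by rintro _ ⟨i, rfl⟩; exact h.mem a i

end Cq

/-- coordinates on the whole group -/
structure Cs (e : ℕ → G) (z : G) : Prop extends Cq e z where
  sur : ∀ x, ∃ i < 512, e i = x

theorem Cq.cs (h : Cq e z) : Cs (fun i => (⟨e i, h.mQ i⟩ : h.Q)) ⟨z, h.zQ⟩ :=
  have o : ∀ b, ((zb (⟨z, h.zQ⟩ : h.Q) b : h.Q) : G) = zb z b := fun b => by cases b <;> rfl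
  ⟨⟨fun i j => Subtype.ext (by rw [coe_mul, coe_mul, o]; exact h.mul i j), fun i => Subtype.ext (h.ez i), fun i => Subtype.ext (h.md i),
    Subtype.ext h.z2, fun f => h.z1 (congrArg Subtype.val f), fun i => Subtype.ext (h.zc i)⟩,
    fun ⟨_, i, f⟩ => ⟨i % 512, Nat.mod_lt _ (by decide), Subtype.ext ((h.md i).trans f)⟩⟩

/-- the check of an automorphism -/
noncomputable def autOK (T : ℕ) : Bool := allBig 512 fun i => forceB (get 9 T i) fun t => band (bor (Nat.beq i 0) (blt 0 t))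
  (allLt 9 fun k => forceB (Nat.shiftLeft 1 k) fun b => Nat.beq (get 9 T (mq i b)) (mq t (get 9 T b)))
/-- solving for an inner automorphism -/
def MT : ℕ := 0xfffdfefcc7c5c6c4cbc9cac8f3f1f2f0d3d1d2d0ebe9eae8e7e5e6e4dfdddedce3e1e2e0dbd9dad8d7d5d6d4efedeeeccfcdceccf7f5f6f4fbf9faf8c3c1c2c07f7d7e7c474546444b494a4873717270535152506b696a68676566645f5d5e5c636162605b595a58575556546f6d6e6c4f4d4e4c777576747b797a7843414240bfbdbebc878586848b898a88b3b1b2b093919290aba9aaa8a7a5a6a49f9d9e9ca3a1a2a09b999a9897959694afadaeac8f8d8e8cb7b5b6b4bbb9bab8838182803f3d3e3c070506040b090a0833313230131112102b292a28272526241f1d1e1c232122201b191a18171516142f2d2e2c0f0d0e0c373536343b393a3803010200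

namespace Cs
variable (h : Cs e z) {a b : MulAut G}
include h

/-- the index -/
noncomputable def ix (x : G) : ℕ := (h.sur x).choose
theorem ix_lt (x : G) : h.ix x < 512 := (h.sur x).choose_spec.1
theorem e_ix (x : G) : e (h.ix x) = x := (h.sur x).choose_spec.2
theorem ix_e (a : i < 512) : h.ix (e i) = i := h.inj _ (h.ix_lt _) _ a (h.e_ix _)
theorem card : Nat.card G = 512 := (Nat.card_congr (Equiv.ofBijective (fun i : Fin 512 => e i)
  ⟨fun i j f => Fin.ext (h.inj _ i.2 _ j.2 f), fun x => ⟨⟨_, h.ix_lt x⟩, h.e_ix x⟩⟩)).symm.trans (Nat.card_fin _)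
theorem fin : Finite G := Nat.finite_of_card_ne_zero (by rw [h.card]; decide)
theorem zx (x : G) : Commute z x := h.e_ix x ▸ h.zc _
theorem cz (c : ∀ b ∈ B8, Commute x (e b)) : x = 1 ∨ x = z :=
  (h.cen (h.ix_lt x) (by rwa [h.e_ix])).imp (fun f => by rw [← h.e_ix x, f, h.e0]) fun f => by rw [← h.e_ix x, f, h.e8]
theorem az (a : MulAut G) : a z = z := (h.cz fun b _ => by simpa using (h.zx (a.symm (e b))).map a).resolve_left
  (mt (map_eq_one_iff a a.injective).1 h.z1)
theorem azb (a : MulAut G) (c : Bool) : a (zb z c) = zb z c := by cases c; exacts [map_one a, h.az a]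
theorem es : IsExtraspecial 2 G := have := h.fin
  ES.isExtraspecial_congr topEquiv (Xs.of_checks (H := ⊤) (Q := ⊤) trivial h.z1 h.z2 (fun x _ => mem_centralizer_singleton_iff.2 (h.zx x).symm)
    (fun x _ => by rw [← h.e_ix x, h.sq]; cases kp _ _; exacts [.inl rfl, .inr rfl]) le_rfl le_normalizer
    (fun x _ c => h.cz fun b _ => (c _ trivial).symm) (by rw [card_top, h.card]; decide)).ex

theorem aut {T : ℕ} (c : autOK T = true) : ∃ a : MulAut G, Act 512 e a (get 9 T) := by
  simp only [autOK, allBig_iff, forceB_eq, band_eq_true, bor_eq_true, beq_iff, blt_iff, allLt_iff] at c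
  let f := fun x => e (get 9 T (h.ix x))
  have o : ∀ x, ∀ k < 9, f (x * e (2 ^ k)) = f x * f (e (2 ^ k)) := fun x k a => by
    have l : 2 ^ k < 512 := Nat.pow_lt_pow_right (n := 9) (by decide) a
    have := (c _ (h.ix_lt x)).2 k a
    rw [show Nat.shiftLeft 1 k = 2 ^ k from Nat.one_shiftLeft k] at this
    simp only [f]
    rw [h.toCq.mq, h.ix_e l, ← this, ← h.ix_e (mq_lt (h.ix_lt x) l), ← h.toCq.mq, h.e_ix]
  have f1 : f 1 = 1 := by simpa using o 1 0 (by decide)
  let φ := MonoidHom.mk' f fun x y => by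
    rw [← h.e_ix y]
    exact h.ind (P := fun y => ∀ x, f (x * y) = f x * f y) (fun x => by rw [f1, mul_one, mul_one])
      (fun y k a i x => by rw [← mul_assoc, o _ k a, i, o _ k a, mul_assoc]) _ x
  have := h.fin
  refine ⟨.ofBijective φ (Finite.injective_iff_bijective.1 ((injective_iff_map_eq_one φ).2 fun x m => ?_)), fun i a =>
    ⟨get_lt 9 T i, congrArg (fun j => e (get 9 T j)) (h.ix_e a)⟩⟩
  rw [← h.e_ix x, (c _ (h.ix_lt x)).1.resolve_right (h.inj _ (get_lt 9 T _) 0 (by decide) (m.trans h.e0.symm)).not_gt, h.e0]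

theorem base : Base 512 e (⊤ : Subgroup (MulAut G)) B8 := ⟨by decide, fun a _ c => MulEquiv.ext fun x =>
  h.e_ix x ▸ h.mem (H := MonoidHom.eqLocus a.toMonoidHom (.id G)) c _⟩
theorem act_conj (m : ℕ) : Act 512 e (MulAut.conj (e m)) (cf m) := fun i a => ⟨by rw [cf, forceN_eq]; exact tz_lt _ a, h.cje m i⟩

/-- the image in the quotient -/
noncomputable def md9 (x : G) : Fin 256 := finPt 256 (h.ix x)
theorem md_e (a : i < 512) : h.md9 (e i) = finPt 256 i := by rw [md9, h.ix_e a]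
theorem md_v (v : Fin 256) : h.md9 (e v) = v := (h.md_e (v.2.trans (by decide))).trans (Fin.ext (Nat.mod_eq_of_lt v.2))
theorem md_z (x : G) (c : Bool) : h.md9 (x * zb z c) = h.md9 x := by
  rw [← h.e_ix x, ← h.et, h.md_e (tz_lt _ (h.ix_lt x)), tz_mod, h.md_e (h.ix_lt x)]
theorem e_md (x : G) : ∃ c, x = e (h.md9 x) * zb z c := ⟨_, (h.e_ix x).symm.trans (h.low (h.ix_lt x))⟩
theorem md_a (a : MulAut G) (x : G) : h.md9 (a (e (h.md9 x))) = h.md9 (a x) := by
  obtain ⟨c, f⟩ := h.e_md x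
  rw [f, map_mul, h.azb, h.md_z, h.md_z, h.md_v]
/-- the action on the quotient -/
noncomputable def bar : MulAut G →* Equiv.Perm (Fin 256) :=
  MonoidHom.toHomPerm ⟨⟨fun a v => h.md9 (a (e v)), funext h.md_v⟩, fun a b => funext fun v => (h.md_a a (b (e v))).symm⟩
theorem bar_v (a : MulAut G) (v : Fin 256) : h.bar a v = h.md9 (a (e v)) := rfl
theorem bar_md (a : MulAut G) (x : G) : h.bar a (h.md9 x) = h.md9 (a x) := h.md_a a x
theorem bar_e (a : MulAut G) (v : Fin 256) : ∃ c, a (e v) = e (h.bar a v) * zb z c := h.e_md _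
theorem bar_act {f : ℕ → ℕ} (c : Act 512 e a f) (l : i < 512) : h.bar a (finPt 256 i) = finPt 256 (f i) := by
  rw [← h.md_e l, h.bar_md, ← h.md_e (c i l).1, ← (c i l).2]; rfl
theorem bar_q (a : MulAut G) (v : Fin 256) : kp (h.bar a v) (h.bar a v) = kp v v := by
  obtain ⟨c, f⟩ := h.bar_e a v
  refine zb_inj h.z1 ?_
  rw [← h.sq, ← h.azb a (kp v v), ← h.sq, map_mul, f, (zb_c (h.zc _) c).mul_mul_mul_comm, zb_mul h.z2, Bool.xor_self]; exact (mul_one _).symm
theorem bar_B (a : MulAut G) (v w : Fin 256) : Bq (h.bar a v) (h.bar a w) = Bq v w := by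
  obtain ⟨c, f⟩ := h.bar_e a v
  obtain ⟨c', f'⟩ := h.bar_e a w
  have := congrArg a (h.cm v w)
  rw [map_mul, map_mul, map_mul, h.azb, f, f', (zb_c (h.zc _) c).mul_mul_mul_comm, (zb_c (h.zc _) c').mul_mul_mul_comm, h.cm, zb_mul h.z2,
    zb_mul h.z2, mul_assoc, mul_assoc, mul_assoc, mul_assoc, mul_right_inj, mul_right_inj, zb_mul h.z2, zb_mul h.z2] at this
  have := zb_inj h.z1 this
  revert this
  cases c <;> cases c' <;> simp
theorem bar_conj (x : G) : h.bar (MulAut.conj x) = 1 := Equiv.ext fun v => by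
  rw [h.bar_v, ← h.e_ix x]
  exact (congrArg h.md9 (h.cje ..)).trans (by rw [cf, forceN_eq, h.et, h.md_z, h.md_v]; rfl)
theorem inn (c : ∀ b ∈ B8, h.bar a (finPt 256 b) = finPt 256 b) : ∃ m < 256, a = MulAut.conj (e m) := by
  choose l hl using fun k : Fin 8 => h.bar_e a (finPt 256 (2 ^ k.1))
  refine ⟨get 8 MT (Nat.ofBits l), get_lt .., (inv_mul_eq_one.1 (h.base.2 _ trivial fun b m => ?_)).symm⟩
  obtain ⟨k, rfl⟩ := (by decide : ∀ b ∈ B8, ∃ k : Fin 8, b = 2 ^ k.1) b m
  have p : (finPt 256 (2 ^ k.1) : ℕ) = 2 ^ k.1 := finPt_val _ (Nat.pow_lt_pow_right (n := 8) (by decide) k.2)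
  have := hl k
  rw [c _ m, p] at this
  rw [mul_smul, inv_smul_eq_iff]
  refine this.trans (Eq.trans ?_ (h.cje ..).symm)
  rw [cf, forceN_eq, h.et, (by decide +kernel : ∀ N < 256, ∀ k : Fin 8, Bq (get 8 MT N) (2 ^ k.1) = N.testBit k) _ (Nat.ofBits_lt_two_pow l) k,
    Nat.testBit_ofBits_lt _ _ k.2]
theorem ker : h.bar.ker = (MulAut.conj : G →* MulAut G).range := ext fun a =>
  ⟨fun f => (h.inn (a := a) fun b _ => by rw [show h.bar a = 1 from f]; rfl).elim fun _ c => ⟨_, c.2.symm⟩, fun ⟨x, c⟩ => c ▸ h.bar_conj x⟩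
theorem baseB : Base 256 (finPt 256) h.bar.range B8 := ⟨by decide, by
  rintro _ ⟨a, rfl⟩ c
  obtain ⟨m, -, rfl⟩ := h.inn c
  exact h.bar_conj _⟩
theorem card_ker : Nat.card h.bar.ker = 256 := by
  have := h.fin
  have b := (MulAut.conj : G →* MulAut G).ker.card_mul_index
  rw [index_ker, h.card, show (MulAut.conj : G →* MulAut G).ker = center G from ext fun x => by
    simp only [MonoidHom.mem_ker, mem_center_iff, MulEquiv.ext_iff, MulAut.conj_apply, MulAut.one_apply, mul_inv_eq_iff_eq_mul]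
    exact forall_congr' fun _ => eq_comm, h.es.2] at b
  rw [h.ker]; omega
theorem card_range (d : 25 ∣ Nat.card h.bar.range) : Nat.card h.bar.range = 348364800 := by
  have := h.fin
  have b := h.bar.ker.card_mul_index
  rw [index_ker, h.card_ker] at b
  by_cases p : Plus G 4
  · rw [card_mulAut_plus h.es (m := 3) h.card p, show autP 3 = 256 * 348364800 by decide] at b; omega
  · rw [card_mulAut_minus h.es (m := 3) h.card p, show autM 3 = 256 * 394813440 by decide] at b; omega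
theorem conj_c (a : MulAut G) (x : G) : cj a (MulAut.conj x) = MulAut.conj (a x) := MulEquiv.ext fun y => by simp [cj]
theorem conj_md (f : h.md9 x = h.md9 y) : MulAut.conj x = MulAut.conj y := by
  obtain ⟨c, i⟩ := h.e_md x
  obtain ⟨c', j⟩ := h.e_md y
  have o : ∀ c, MulAut.conj (zb z c) = 1 := fun c => MulEquiv.ext fun y => mul_inv_eq_iff_eq_mul.2 (zb_c (h.zx y) c)
  rw [i, j, map_mul, map_mul, o, o, f]

end Cs

/-- a word applied to a point -/
noncomputable def pw (w : ℕ) (env : ℕ → ℕ) (f : ℕ) : ℕ → ℕ → ℕ :=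
  Nat.rec (fun _ i => i) (fun _ ih x i => get w (env (Nat.mod x 16)) (ih (Nat.div x 16) i)) f
theorem act_pw {X : Type*} [MulAction G X] {pt : ℕ → X} {w : ℕ} {env : ℕ → ℕ} (h : ∀ c, Act n pt (g c) (get w (env c))) (f x : ℕ) :
    Act n pt (evF g 16 f x) (pw w env f x) := by
  induction f generalizing x with
  | zero => exact Act.one
  | succ f ih => exact (h _).mul (ih _)

end Cfsg.Lib.SzV
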