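import Cfsg.Agent.Lib.SzW.QC

/-!
# Automorphisms of `2^{1+8}_+`: involutions
-/

set_option autoImplicit false
set_option maxRecDepth 100000

namespace Cfsg.Lib.SzV

open Cfsg.Lib.Calc Cfsg.Lib.Grp Cfsg.Lib.T2

/-- the letters on the group -/
noncomputable def efA : ℕ → F2 := fenv 512 9 m9.env
/-- the letters on the quotient -/
noncomputable def efB : ℕ → F2 := fenv 256 8 m8.env
/-- evaluation on the group -/
noncomputable def evA (φ : Fm) : Bool := evf 512 9 B8 (fun _ => v9L) φ efA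
/-- evaluation on the quotient -/
noncomputable def evB (φ : Fm) : Bool := evf 256 8 B8 m8.Ls φ efB
/-- an inner automorphism -/
noncomputable def cm (m : ℕ) : F2 := fun _ i => cf m i

/-- an involution of the Sylow subgroup is conjugate to a representative -/
noncomputable def st1 (f : F2) : Bool := bor (bnot (feq B8 (fmul f f) fun _ i => i)) (forceB (keyF 8 B8 f) fun d =>
  forceB (get 28 H1 (Nat.mod (Nat.mod d (Nat.add 100003 (get 10 HD (Nat.mod d 701)))) 4096)) fun c => forceB (Nat.div c 8) fun x =>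
    band (blt (Nat.mod c 8) 7) (feq B8 (fmul (pwF efB 6 x) (efB (get 6 RB (Nat.mod c 8)))) (fmul f (pwF efB 6 x))))
theorem st1_ok : allF 256 8 st1 (m8.Ls 0) (fun _ i => i) = true := by decide +kernel

/-- the same in a coset of the inner automorphisms -/
noncomputable def st2 (t m : ℕ) : Bool := forceB (get 6 RB t) fun c => bor (bnot (feq B8 (fmul (fmul (cm m) (efA c)) (fmul (cm m) (efA c))) fun _ i => i))
  (forceB (get 36 H2 (Nat.add (Nat.mul 256 t) m)) fun x => forceB (Nat.div x 4096) fun y => forceB (Nat.mod (Nat.div x 16) 256) fun k =>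
    feq B8 (fmul (fmul (cm k) (pwF efA 6 y)) (efA (get 6 RL (Nat.mod x 16)))) (fmul (fmul (cm m) (efA c)) (fmul (cm k) (pwF efA 6 y))))
theorem st2_ok : allLt 7 (fun t => allBig 256 (st2 t)) = true := by decide +kernel
theorem rb_ok : allLt 7 (fun t => evA (.one (.mul (.l (get 6 RB t)) (.l (get 6 RB t))))) = true := by decide +kernel

/-- conjugation -/
def cjW (a b : W) : W := .mul (.mul a b) (.inv a)
/-- commutation -/
def cmW (a b : W) : Fm := .eq (.mul a b) (.mul b a)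
/-- a commutator gives a `2`-element -/
def f4F (c : W) : Fm := .lt 61 (.pow (.mul (.l 60) (cjW (.mul c c) (.inv (.l 60)))) 3) (.and (.one (.pow (.l 61) 4)) (.not (.one (.l 61))))
theorem f4_ok : allFrom 1 3 (fun k => evB (.all k 60 [] (.or (.one (.l 60)) (.or (f4F (.mul (.l 9) (.l 6))) (.or (f4F (.l 3))
    (.or (f4F (.mul (.l 9) (.l 13))) (f4F (.l 1)))))))) = true := by
  decide +kernel

/-- certificates for the exceptional class -/
def xl : List (W × W) := [(.mul (.mul (.mul (.l 15) (.l 9)) (.l 12)) (.l 5), .mul (.l 2) (.l 13)),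
  (.mul (.mul (.mul (.l 1) (.l 7)) (.l 4)) (.l 3), .l 14),
  (.mul (.mul (.mul (.l 1) (.l 14)) (.l 1)) (.l 11), .mul (.l 11) (.l 6)),
  (.mul (.mul (.mul (.l 14) (.l 5)) (.l 4)) (.l 10), .mul (.l 3) (.l 6)),
  (.mul (.mul (.mul (.l 13) (.l 9)) (.l 3)) (.l 11), .mul (.l 3) (.l 6)),
  (.mul (.mul (.mul (.l 9) (.l 11)) (.l 14)) (.l 6), .mul (.l 8) (.l 2)),
  (.mul (.mul (.mul (.l 13) (.l 11)) (.l 5)) (.l 15), .l 0),
  (.mul (.mul (.mul (.l 14) (.l 3)) (.l 13)) (.l 15), .l 0),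
  (.mul (.mul (.mul (.l 15) (.l 9)) (.l 7)) (.l 14), .mul (.l 8) (.l 2)),
  (.mul (.mul (.mul (.l 5) (.l 12)) (.l 6)) (.l 12), .l 14),
  (.mul (.mul (.mul (.l 10) (.l 15)) (.l 6)) (.l 4), .mul (.l 13) (.l 1)),
  (.mul (.mul (.mul (.l 3) (.l 14)) (.l 8)) (.l 7), .mul (.mul (.l 1) (.l 1)) (.l 6)),
  (.mul (.mul (.mul (.l 4) (.l 2)) (.l 2)) (.l 11), .mul (.l 9) (.l 12)),
  (.mul (.mul (.mul (.l 3) (.l 4)) (.l 10)) (.l 8), .mul (.l 4) (.l 9)),
  (.mul (.mul (.mul (.l 15) (.l 13)) (.l 7)) (.l 14), .l 0)]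
/-- a conjugate -/
def xf (p : W × W) : W := cjW (.mul p.1 p.1) (.l 32)
/-- the cosets are covered -/
def xF : List (W × W) → Fm
  | [] => .one (.l 60)
  | p :: l => .or (.or (.eq (xf p) (.l 60)) (.eq (xf p) (.mul (.l 60) (.l 32)))) (xF l)
theorem xi1 : evA (.all 0 60 [] (.and (.and (.one (.mul (.l 60) (.l 60))) (cmW (.l 60) (.l 32))) (xF xl))) = true := by decide +kernel
theorem xi2 : allP xl (fun p => band (evA (cmW (.mul (xf p) (.l 32)) (cjW p.2 (.l 16)))) (evB (.not (.one (.mul (xf p) (.l 32)))))) = true := by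
  decide +kernel

theorem n9_ok : ∀ v < 256, kp v v = true → get 8 (m8.env 32) v ≠ v := by decide +kernel
theorem inn_ok : ∀ b ∈ B8, get 9 (m9.env 45) b = cf 1 b := by decide +kernel
theorem hyp_ok : ∀ x ∈ [8, 16, 32], ∀ v < 256, (∀ b ∈ [1, 2, 4, 24, 40, 64, 128], Bq v b = Bq x b) → kp v v = kp x x → v = x := by decide +kernel
theorem cod_ok : ∀ v < 256, ((∀ b ∈ [6, 4, 24, 40, 64, 128], Bq v b = Bq 1 b) → kp v v = kp 1 1 → v = 1 ∨ v = 5) ∧
    ((∀ b ∈ [1, 6, 4, 24, 40, 64, 128], Bq v b = Bq 2 b) → v = 2 ∨ v = 6) := by decide +kernel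
theorem ns_card : {v : Fin 256 | kp v v = true}.ncard = 120 := by
  rw [Set.ncard_eq_toFinset_card']; decide +kernel

end Cfsg.Lib.SzV
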